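import Cfsg.Agent.H505.RatB.Orb
import Cfsg.Agent.H805.K4.Tits
import Cfsg.Agent.H493.RatB.WitS
import Cfsg.Agent.H707.RowTits

/-!
# S4891 (TEAM B0-RAT): the row of the Tits group (helper505)

The action on the 1755 points of the generalized octagon has rank five and five rational constituents of the degrees
`1, 351, 650, 675, 78` (eigenvalues `10, 5, 1, -3, -5` of the collinearity graph). `1755 = 3 ^ 3 * 5 * 13`.
-/

set_option autoImplicit false
set_option maxRecDepth 100000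
set_option exponentiation.threshold 5000

namespace Cfsg.Agent.H505.RatB

open Cfsg Cfsg.Agent.Characters.Core Cfsg.Agent.H493.RatB Cfsg.Agent.H145.BR
open MulAction

universe u v

/-- `p` divides the degree of a transitive action whose character is a sum of as many rational characters as its rank -/
theorem witR_of_chars {S : Type u} [Group S] [Fintype S] {p : ℕ} [hp : Fact p.Prime] {X : Type v} [Finite X]
    [MulAction S X] [IsPretransitive S X] [Nonempty X] (hd : p ∣ Nat.card X) {m : ℕ}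
    (h : ∃ (χ : Fin m → S → ℂ) (N : Fin m → Fin m → ℕ), (∀ s, IsCharacter S (χ s)) ∧
      (∀ g : S, ∑ s, χ s g = Nat.card (fixedBy X g)) ∧ (∀ s g, ∃ q : ℚ, χ s g = q) ∧
      (∀ s t, classInner (χ s) (χ t) = N s t) ∧ (∀ s, 0 < N s s) ∧ ∑ s, ∑ t, N s t ≤ m) : WitR p S := by
  classical
  obtain ⟨χ, N, h1, h3, h4, h5, h6, h7⟩ := h
  have hN : ∀ s, N s s = 1 := by
    have h8 : ∑ s, N s s ≤ m := (Finset.sum_le_sum fun s _ =>
      Finset.single_le_sum (f := fun t => N s t) (fun _ _ => Nat.zero_le _) (Finset.mem_univ s)).trans h7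
    have h9 : ∑ _s : Fin m, 1 = m := by simp
    intro s
    by_contra hs
    have h10 : ∑ s : Fin m, 1 < ∑ s, N s s :=
      Finset.sum_lt_sum (fun t _ => h6 t) ⟨s, Finset.mem_univ s, by have := h6 s; omega⟩
    omega
  have hirr : ∀ s, IsIrrCharacter S (χ s) := fun s =>
    isIrr_of_classInner_self (h1 s) (by rw [h5, hN, Nat.cast_one])
  refine witR_of_dvd hd fun ξ hξ _ _ => ?_
  by_contra hne
  apply hξ
  have e : permC S X = ∑ s, χ s := by
    funext g
    rw [Finset.sum_apply, h3 g]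
    rfl
  rw [e, classInner_sum_left]
  refine Finset.sum_eq_zero fun s _ => classInner_irr_ne (hirr s) ξ.2 fun h8 => hne ?_
  rw [← h8]
  exact h4 s

namespace Tits

open Cfsg.Agent.Lib.BitNet Cfsg.Agent.Lib.BitNetSimple Cfsg.Agent.H805.K4.Bit Cfsg.Agent.H805.K4.Tits
open Cfsg.Agent.SporadicB.RuData Cfsg.Agent.SporadicB.RuOrder Cfsg.Agent.SporadicB.RuTitsData
open Cfsg.Agent.SporadicB.RuTits Cfsg.Agent.H443.HN.Scheme

/-- the intersection numbers -/
def K : Fin 5 → Fin 5 → ℤ := ![![0, 10, 0, 0, 0], ![1, 1, 8, 0, 0], ![0, 1, 1, 8, 0], ![0, 0, 1, 1, 8],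
  ![0, 0, 0, 5, 5]]

theorem K_eq : ∀ i j, ((BX i j : ℕ) : ℤ) = K i j := by decide

theorem count [Fintype (Pt X)] (x z : Pt X) (j : Fin 5) :
    (Finset.univ.filter fun y => ty X x y = j ∧ ty X z y = 1).card = BX (ty X x z) j := by
  refine count_eq X (K := 12) (by norm_num) 1 BX (fun i => pw (wX i)) (fun i => pw_mem _) (fun i => ?_)
    (fun i => appMF (net (wX i)) (X.cm 1)) (fun i x => pw_img _ _ x) (by decide +kernel) (by decide +kernel) x z j
  apply Fin.ext
  rw [pw_apply, ← appF_eq]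
  refine Nat.eq_of_beq_eq_true ?_
  revert i
  decide +kernel

theorem card_Pt : Nat.card (Pt X) = 1755 := by
  rw [← card_orbitT]
  refine Nat.card_congr (Equiv.subtypeEquivRight fun x => ?_)
  rw [H707.RowTitsModel.orbit_eq]
  rfl

def L0 : List (ℤ × (Fin 5 → ℤ)) := [(5, ![-5, 1, 0, 0, 0]), (1, ![15, -5, 1, 0, 0]), (-3, ![-5, 3, -1, 1, 0]),
  (-5, ![5, 5, 5, 5, 5])]

def L1 : List (ℤ × (Fin 5 → ℤ)) := [(10, ![-10, 1, 0, 0, 0]), (1, ![20, -10, 1, 0, 0]), (-3, ![-40, -12, -6, 1, 0]),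
  (-5, ![-320, -160, -40, 0, 5])]

def L2 : List (ℤ × (Fin 5 → ℤ)) := [(10, ![-10, 1, 0, 0, 0]), (5, ![60, -14, 1, 0, 0]), (-3, ![40, 12, -10, 1, 0]),
  (-5, ![320, 32, -40, -4, 5])]

def L3 : List (ℤ × (Fin 5 → ℤ)) := [(10, ![-10, 1, 0, 0, 0]), (5, ![60, -14, 1, 0, 0]), (1, ![-200, 68, -14, 1, 0]),
  (-5, ![-320, 96, -8, -8, 5])]

def L4 : List (ℤ × (Fin 5 → ℤ)) := [(10, ![-10, 1, 0, 0, 0]), (5, ![60, -14, 1, 0, 0]), (1, ![-200, 68, -14, 1, 0]),
  (-3, ![80, -40, 20, -10, 5])]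

def L : Fin 5 → List (ℤ × (Fin 5 → ℤ)) := ![L0, L1, L2, L3, L4]

def th : Fin 5 → ℤ := ![10, 5, 1, -3, -5]

def pp : Fin 5 → ℤ := ![8775, -1600, 864, -832, 1800]

def cc : Fin 5 → ℤ := ![64, -351, 650, -675, 312]

def nn : Fin 5 → ℕ := ![1, 351, 650, 675, 78]

theorem ok (s : Fin 5) : Ok K (Pi.single 0 1) (L s) := by
  fin_cases s
  · refine ⟨?_, ?_, ?_, ?_, trivial⟩ <;> decide +kernel
  · refine ⟨?_, ?_, ?_, ?_, trivial⟩ <;> decide +kernel
  · refine ⟨?_, ?_, ?_, ?_, trivial⟩ <;> decide +kernel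
  · refine ⟨?_, ?_, ?_, ?_, trivial⟩ <;> decide +kernel
  · refine ⟨?_, ?_, ?_, ?_, trivial⟩ <;> decide +kernel

theorem eig : ∀ s i, ∑ j, K i j * last (Pi.single 0 1) (L s) j = th s * last (Pi.single 0 1) (L s) i := by
  decide +kernel

theorem prod_eq : ∀ s, ((L s).map fun x => th s - x.1).prod = pp s := by decide +kernel

theorem sum_eq : ∀ i : Fin 5, ∑ s, cc s * last (Pi.single 0 1) (L s) i = if i = 0 then 561600 else 0 := by
  decide +kernel

theorem nn_eq : ∀ s, (1755 : ℤ) * last (Pi.single 0 1) (L s) 0 = nn s * pp s := by decide +kernel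

instance instTrans : IsPretransitive T (Pt X) := transitive X

instance instNe : Nonempty (Pt X) := ⟨bp X⟩

theorem chars [Fintype T] : ∃ (χ : Fin 5 → T → ℂ) (N : Fin 5 → Fin 5 → ℕ), (∀ s, IsCharacter T (χ s)) ∧
    (∀ g : T, ∑ s, χ s g = Nat.card (fixedBy (Pt X) g)) ∧ (∀ s g, ∃ q : ℚ, χ s g = q) ∧
    (∀ s t, classInner (χ s) (χ t) = N s t) ∧ (∀ s, 0 < N s s) ∧ ∑ s, ∑ t, N s t ≤ 5 := by
  classical
  obtain ⟨χ, N, h1, -, h3⟩ := Cfsg.Agent.H38.K4.Scheme.main_rat (G := T) (ty := ty X) (K := K) (i0 := 0) (i1 := 1)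
    (ty_zero X) (ty_one X count (by decide)) (fun x z j => by rw [count, K_eq]) (ty_smul X) (ty_trans X) L th ok eig pp
    prod_eq (by decide) cc 561600 (by decide) sum_eq (by decide) nn (fun s => by
      rw [card_Pt]
      exact nn_eq s) (by decide)
  exact ⟨χ, N, h1, h3⟩

theorem witR_T {p : ℕ} [Fact p.Prime] (hp : p ∣ 1755) : WitR p T := by
  have := Fintype.ofFinite T
  exact witR_of_chars (X := Pt X) (by rwa [card_Pt]) chars

theorem witR {p : ℕ} [Fact p.Prime] (hp : p ∣ 1755) {S : Type u} [Group S] (h : Lie.IsoTits S) : WitR p S := by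
  obtain ⟨e⟩ := h
  obtain ⟨f⟩ := H707.RowTits.equiv
  have : Finite S := Finite.of_equiv _ (e.trans f).symm.toEquiv
  exact (witR_T hp).congr (e.trans f)

/-- **row Tits, p = 3** -/
theorem witR_three {S : Type u} [Group S] (h : Lie.IsoTits S) : WitR 3 S := by
  have : Fact (Nat.Prime 3) := ⟨by norm_num⟩
  exact witR (by norm_num) h

/-- **row Tits, p = 5** -/
theorem witR_five {S : Type u} [Group S] (h : Lie.IsoTits S) : WitR 5 S := by
  have : Fact (Nat.Prime 5) := ⟨by norm_num⟩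
  exact witR (by norm_num) h

/-- the same for `p = 13` -/
theorem witR_thirteen {S : Type u} [Group S] (h : Lie.IsoTits S) : WitR 13 S := by
  have : Fact (Nat.Prime 13) := ⟨by norm_num⟩
  exact witR (by norm_num) h

end Tits

end Cfsg.Agent.H505.RatB
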