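import Cfsg.Agent.H805.K4.Bit
import Cfsg.Agent.H38.K4.Scheme

/-!
# The association scheme of an orbit given by masks (helper505)

`T` is a group of permutations of `Fin N`, `D : Orb T n` an orbit with its suborbits (helper805). `ty D x y` is the class
of the pair `(x, y)`; `count_eq` : the collapsed matrix of a self-paired class gives all the intersection numbers.
-/

set_option autoImplicit false

namespace Cfsg.Agent.H505.RatB

open Cfsg Cfsg.Agent.Lib.BitNet Cfsg.Agent.Lib.BitNetSimple Cfsg.Agent.H805.K4.Bit Finset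
open MulAction

variable {N : ℕ} {T : Subgroup (Equiv.Perm (Fin N))} {n : ℕ} (D : Orb T n)

/-- the base point -/
def bp : Pt D := ⟨D.p, D.p_mem⟩

/-- the representatives -/
def rp (i : Fin n) : Pt D := ⟨D.ry i, D.sub i _ (D.ry_mem i)⟩

theorem exists_bp (x : Pt D) : ∃ g : T, g • bp D = x := by
  obtain ⟨g, hg, h⟩ := D.trans x.1 x.2
  exact ⟨⟨g, hg⟩, Subtype.ext h⟩

theorem cls_stab {g : T} (hg : g • bp D = bp D) (x : Pt D) : cls D (g • x) = cls D x := by
  rw [cls_iff, smul_val]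
  have h1 : g.1 D.p = D.p := congrArg Subtype.val hg
  rw [D.inv _ g.2 h1]
  exact cls_spec D x

/-- the class of a pair -/
noncomputable def ty (x y : Pt D) : Fin n := cls D ((exists_bp D x).choose⁻¹ • y)

theorem ty_eq {g : T} {x : Pt D} (hg : g • bp D = x) (y : Pt D) : ty D x y = cls D (g⁻¹ • y) := by
  have h1 := (exists_bp D x).choose_spec
  set h := (exists_bp D x).choose with hh
  have h2 : (g⁻¹ * h) • bp D = bp D := by rw [mul_smul, h1, ← hg, inv_smul_smul]
  have h3 := cls_stab D h2 (h⁻¹ • y)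
  rw [mul_smul, smul_inv_smul] at h3
  rw [h3]
  rfl

theorem ty_bp (y : Pt D) : ty D (bp D) y = cls D y := by
  rw [ty_eq D (g := 1) (one_smul _ _), inv_one, one_smul]

theorem ty_smul (g : T) (x y : Pt D) : ty D (g • x) (g • y) = ty D x y := by
  obtain ⟨h, rfl⟩ := exists_bp D x
  rw [ty_eq D (g := g * h) (mul_smul _ _ _), ty_eq D rfl, mul_inv_rev, mul_smul, inv_smul_smul]

theorem exists_orb (x : Pt D) : ∃ g : T, g • bp D = bp D ∧ g • rp D (cls D x) = x := by
  obtain ⟨g, hg, h1, h2⟩ := D.orb (cls D x) x.1 (cls_spec D x)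
  exact ⟨⟨g, hg⟩, Subtype.ext h1, Subtype.ext h2⟩

theorem exists_rep (x z : Pt D) : ∃ g : T, g • bp D = x ∧ g • rp D (ty D x z) = z := by
  obtain ⟨h, rfl⟩ := exists_bp D x
  obtain ⟨g, h1, h2⟩ := exists_orb D (h⁻¹ • z)
  refine ⟨h * g, by rw [mul_smul, h1], ?_⟩
  rw [mul_smul, ty_eq D rfl, h2, smul_inv_smul]

theorem ty_trans (x y x' y' : Pt D) (h : ty D x y = ty D x' y') : ∃ g : T, g • x = x' ∧ g • y = y' := by
  obtain ⟨a, ha1, ha2⟩ := exists_rep D x y
  obtain ⟨b, hb1, hb2⟩ := exists_rep D x' y'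
  refine ⟨b * a⁻¹, ?_, ?_⟩
  · rw [← ha1, mul_smul, inv_smul_smul, hb1]
  · rw [← ha2, mul_smul, inv_smul_smul, h, hb2]

theorem cls_rp (i : Fin n) : cls D (rp D i) = i := (cls_iff D _ _).2 (D.ry_mem i)

theorem cls_bp : cls D (bp D) = D.c0 := (cls_iff D _ _).2 D.c0_mem

theorem eq_bp {x : Pt D} (h : cls D x = D.c0) : x = bp D := by
  obtain ⟨g, h1, h2⟩ := exists_orb D x
  obtain ⟨a, a1, a2⟩ := exists_orb D (bp D)
  rw [cls_bp] at a2
  have h3 : rp D D.c0 = bp D := by
    have h4 : a • rp D D.c0 = a • bp D := by rw [a2, a1]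
    exact MulAction.injective a h4
  rw [h, h3, h1] at h2
  exact h2.symm

theorem ty_zero (x y : Pt D) : ty D x y = D.c0 ↔ x = y := by
  obtain ⟨g, rfl⟩ := exists_bp D x
  rw [ty_eq D rfl]
  constructor
  · intro h
    rw [← eq_bp D h, smul_inv_smul]
  · rintro rfl
    rw [inv_smul_smul, cls_bp]

/-- The intersection numbers of the class `c` are given by the collapsed matrix. -/
theorem count_eq [Fintype (Pt D)] {K : ℕ} (hN : N ≤ 2 ^ K) (c : Fin n) (B : Fin n → Fin n → ℕ)
    (γ : Fin n → Equiv.Perm (Fin N)) (hγT : ∀ i, γ i ∈ T) (hγ : ∀ i, γ i D.p = D.ry i)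
    (im : Fin n → ℕ) (him : ∀ i (x : Fin N), (im i).testBit (γ i x) = (D.cm c).testBit x)
    (hB : ∀ i j, Nat.beq (popc K (Nat.land (im i) (D.cm j))) (B i j) = true)
    (hlt : ∀ j, Nat.blt (D.cm j) (Nat.pow 2 N) = true) [DecidableEq (Fin n)] (x z : Pt D) (j : Fin n) :
    (univ.filter fun y => ty D x y = j ∧ ty D z y = c).card = B (ty D x z) j := by
  classical
  -- sizes of sets of points given by masks
  have hcard : ∀ (w : ℕ) (j : Fin n) (s : ℕ), Nat.beq (popc K (Nat.land w (D.cm j))) s = true →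
      (Finset.univ.filter fun y : Pt D => w.testBit y.1 = true ∧ cls D y = j).card = s := by
    intro w j s hs
    have h1 : (Finset.univ.filter fun y : Pt D => w.testBit y.1 = true ∧ cls D y = j).card =
        (pts N (Nat.land w (D.cm j))).card := by
      rw [← Finset.card_map (Function.Embedding.subtype _)]
      congr 1
      ext y
      have e : Nat.land w (D.cm j) = w &&& D.cm j := rfl
      rw [Finset.mem_map, mem_pts, e, Nat.testBit_and, Bool.and_eq_true]
      constructor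
      · rintro ⟨z, hz, rfl⟩
        obtain ⟨-, hz1, hz2⟩ := Finset.mem_filter.1 hz
        exact ⟨hz1, (cls_iff D _ _).1 hz2⟩
      · rintro ⟨h1, h2⟩
        exact ⟨⟨y, D.sub j y h2⟩, Finset.mem_filter.2 ⟨Finset.mem_univ _, h1, (cls_iff D _ _).2 h2⟩, rfl⟩
    rw [h1]
    have h2 := Nat.eq_of_beq_eq_true hs
    apply le_antisymm
    · rw [← h2]
      exact card_pts_le hN _
    · rw [← h2]
      refine card_pts_eq fun i hi => ?_
      by_contra hle
      have h3 := hlt j
      rw [Nat.blt_eq] at h3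
      have e : Nat.land w (D.cm j) = w &&& D.cm j := rfl
      rw [e, Nat.testBit_and, Bool.and_eq_true] at hi
      have h4 : D.cm j < 2 ^ i := lt_of_lt_of_le h3 (Nat.pow_le_pow_right (by norm_num) (not_lt.1 hle))
      rw [Nat.testBit_lt_two_pow h4] at hi
      exact Bool.noConfusion hi.2
  -- the class `c` seen from the representatives
  have hrep : ∀ i (y : Pt D), ty D (rp D i) y = c ↔ (im i).testBit y.1 = true := by
    intro i y
    have hg : (⟨γ i, hγT i⟩ : T) • bp D = rp D i := Subtype.ext (hγ i)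
    rw [ty_eq D hg, cls_iff]
    have h1 := him i (((⟨γ i, hγT i⟩ : T)⁻¹ • y : Pt D)).1
    have h2 : γ i (((⟨γ i, hγT i⟩ : T)⁻¹ • y : Pt D)).1 = y.1 :=
      congrArg Subtype.val (smul_inv_smul (⟨γ i, hγT i⟩ : T) y)
    rw [h2] at h1
    rw [h1]
  -- transport to the representatives
  obtain ⟨g, hg1, hg2⟩ := exists_rep D x z
  set i := ty D x z with hi
  rw [← hcard (im i) j (B i j) (hB i j)]
  refine Finset.card_bij (fun y _ => g⁻¹ • y) ?_ ?_ ?_
  · intro y hy
    obtain ⟨-, h1, h2⟩ := Finset.mem_filter.1 hy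
    refine Finset.mem_filter.2 ⟨Finset.mem_univ _, ?_, ?_⟩
    · rw [← hrep, ← ty_smul D g, hg2, smul_inv_smul, h2]
    · rw [← ty_bp, ← ty_smul D g, hg1, smul_inv_smul, h1]
  · intro a _ b _ h
    exact MulAction.injective g⁻¹ h
  · intro y hy
    obtain ⟨-, h1, h2⟩ := Finset.mem_filter.1 hy
    refine ⟨g • y, Finset.mem_filter.2 ⟨Finset.mem_univ _, ?_, ?_⟩, inv_smul_smul _ _⟩
    · rw [← hg1, ty_smul, ty_bp, h2]
    · rw [← hg2, ty_smul, hrep]
      exact h1

/-- a self-paired class -/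
theorem ty_symm [Fintype (Pt D)] {c : Fin n} {B : Fin n → Fin n → ℕ} (hcount : ∀ x z j,
    (univ.filter fun y => ty D x y = j ∧ ty D z y = c).card = B (ty D x z) j) (hc : B c D.c0 ≠ 0) (x y : Pt D)
    (h : ty D x y = c) : ty D y x = c := by
  have h1 := hcount x y D.c0
  rw [h] at h1
  have h2 : (univ.filter fun z => ty D x z = D.c0 ∧ ty D y z = c).Nonempty := by
    rw [← Finset.card_pos, h1]
    omega
  obtain ⟨z, hz⟩ := h2
  obtain ⟨-, hz1, hz2⟩ := Finset.mem_filter.1 hz
  rw [← (ty_zero D x z).1 hz1] at hz2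
  exact hz2

theorem ty_one [Fintype (Pt D)] {c : Fin n} {B : Fin n → Fin n → ℕ} (hcount : ∀ x z j,
    (univ.filter fun y => ty D x y = j ∧ ty D z y = c).card = B (ty D x z) j) (hc : B c D.c0 ≠ 0) (x y : Pt D) :
    ty D x y = c ↔ ty D y x = c :=
  ⟨ty_symm D hcount hc x y, ty_symm D hcount hc y x⟩

end Cfsg.Agent.H505.RatB
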